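import Groth.Agent.OEtStalk.Main
import Groth.Agent.Hensel.HenselizationAscent
import Groth.Agent.Hensel.HenselizationNormal
import Groth.Agent.BranchCount.Descent
import Groth.Agent.BranchCount.ElemNbhd
import Groth.Agent.BranchCount.Apps
import Groth.Agent.AlgSpc.EtLocInst

/-!
# Etale local rings at geometric points and etale charts
-/

set_option autoImplicit false
set_option linter.style.haveILetI false
set_option backward.isDefEq.respectTransparency false
universe u v w

open CategoryTheory CategoryTheory.Limits AlgebraicGeometry Opposite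

namespace Groth.Agent.OEtStalk

open Groth.Agent.AlgSpc _root_.AlgSp

theorem isSepClosed_of_ringEquiv {k : Type v} {K : Type w} [Field k] [Field K] (e : k ≃+* K) [IsSepClosed k] :
    IsSepClosed K := by
  refine IsSepClosed.of_exists_root _ fun p hm hi hs ↦ ?_
  have hd : (p.map e.symm.toRingHom).degree ≠ 0 := by
    rw [Polynomial.degree_map]
    exact (Polynomial.degree_pos_of_irreducible hi).ne'
  obtain ⟨x, hx⟩ := IsSepClosed.exists_root _ hd hs.map
  refine ⟨e x, e.symm.injective ?_⟩
  rw [map_zero, ← hx.eq_zero]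
  exact (Polynomial.eval_map_apply (f := e.symm.toRingHom) (e x)).symm.trans (by simp)

variable {S : Scheme.{u}} {X : Sp S}

/-- A geometric point at the image of a chart point lifts to the chart. -/
theorem exists_lift (p : FieldPt X) (hp : p.IsGeometric) {U : Over S} {a : (yon S).obj U ⟶ X} (ha : RepWith @Etale a)
    {u : ↥U.left} (h : Points.ofPt a u = Points.mk p) :
    ∃ t : p.pt ⟶ U, (yon S).map t ≫ a = p.toHom ∧ t.left (IsLocalRing.closedPoint p.K) = u := by
  haveI : IsAlgClosed p.K := hp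
  obtain ⟨W, fst, snd, sq⟩ := exists_sq ha.1 p.toHom
  haveI : Etale snd.left := ha.2 p.toHom fst snd sq
  have h' : Points.map a (Points.ofScheme U u) = Points.ofPt p.toHom (IsLocalRing.closedPoint p.K) := by
    rw [← Points.ofPt_eq_map_ofScheme, h, Points.ofPt_toHom]
  obtain ⟨w, hw1, -⟩ := exists_point_of_sq sq (Points.ofScheme U u) (IsLocalRing.closedPoint p.K) h'
  rw [ofPt_pre] at hw1
  have hwu : (pre fst).left w = u := by
    have := congrArg (Points.toScheme U) hw1
    rwa [Points.toScheme_ofScheme, Points.toScheme_ofScheme] at this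
  haveI : LocallyQuasiFinite snd.left := lqf_of_etale _
  haveI : DiscreteTopology ↥W.left := by
    have h1 := snd.left.isDiscrete_preimage_singleton (IsLocalRing.closedPoint p.K)
    have h2 : snd.left ⁻¹' {IsLocalRing.closedPoint p.K} = Set.univ :=
      Set.eq_univ_of_forall fun z => Subsingleton.elim (α := PrimeSpectrum p.K) _ _
    rw [h2] at h1
    exact isDiscrete_univ_iff.1 h1
  let s : Spec (CommRingCat.of p.K) ⟶ W.left := pointOfClosedPoint snd.left w (isClosed_discrete _)
  have hs : s ≫ snd.left = 𝟙 _ := pointOfClosedPoint_comp snd.left w _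
  let t : p.pt ⟶ W := Over.homMk s (by rw [← Over.w snd, ← Category.assoc, hs]; exact Category.id_comp _)
  have ht : t ≫ snd = 𝟙 _ := by ext; exact hs
  refine ⟨t ≫ pre fst, ?_, ?_⟩
  · rw [Functor.map_comp, Category.assoc, map_pre, sq.w, ← Category.assoc, ← Functor.map_comp, ht]
    simp
  · show (pre fst).left (s (IsLocalRing.closedPoint p.K)) = u
    rw [show s (IsLocalRing.closedPoint p.K) = w from pointOfClosedPoint_apply _ _ _ _, hwu]

theorem exists_geometric (x : Points X) : ∃ p : FieldPt X, p.IsGeometric ∧ Points.mk p = x := by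
  induction x using Points.ind with
  | h q =>
    let φ := Spec.map (CommRingCat.ofHom (algebraMap q.K (AlgebraicClosure q.K)))
    let a : Over.mk (φ ≫ q.str) ⟶ q.pt := Over.homMk φ rfl
    refine ⟨⟨AlgebraicClosure q.K, φ ≫ q.str, X.obj.map a.op q.val⟩, AlgebraicClosure.isAlgClosed q.K, ?_⟩
    refine Points.sound ⟨AlgebraicClosure q.K, inferInstance, φ ≫ q.str, 𝟙 _, a, ?_⟩
    rw [op_id, Functor.map_id_apply]

theorem exists_chart (hX : IsAlgSpace X) (x : Points X) :
    ∃ (U : Over S) (a : (yon S).obj U ⟶ X) (u : ↥U.left), RepWith @Etale a ∧ Points.ofPt a u = x := by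
  obtain ⟨U, a, ha, has⟩ := hX.atlas
  obtain ⟨u, hu⟩ := surjective_ofPt has x
  exact ⟨U, a, u, ha, hu⟩

/-- The etale local ring at a geometric point is a strict henselization of the local ring of any chart. -/
theorem exists_sh (hX : IsAlgSpace X) (p : FieldPt X) (hp : p.IsGeometric) {U : Over S}
    {a : (yon S).obj U ⟶ X} (ha : RepWith @Etale a) {u : ↥U.left} (h : Points.ofPt a u = Points.mk p) :
    ∃ (H : Type u) (_ : CommRing H) (_ : IsLocalRing H) (_ : Algebra ↥(U.left.presheaf.stalk u) H)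
      (_ : IsLocalHom (algebraMap ↥(U.left.presheaf.stalk u) H)),
      _root_.Hensel.IsStrictHenselization ↥(U.left.presheaf.stalk u) H ∧ Nonempty (H ≃+* ↥(OEtStalk p)) := by
  obtain ⟨t, ht, rfl⟩ := exists_lift p hp ha h
  exact exists_strictHenselization hX p hp (EtOver.mk a ha) t ht

theorem isStrictlyHenselian (hX : IsAlgSpace X) (p : FieldPt X) (hp : p.IsGeometric) :
    IsLocalRing ↥(OEtStalk p) ∧ EtCoh.IsStrictlyHenselianLocalRing ↥(OEtStalk p) := by
  obtain ⟨U, a, u, ha, hu⟩ := exists_chart hX (Points.mk p)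
  obtain ⟨H, _, _, _, _, hH, ⟨e⟩⟩ := exists_sh hX p hp ha hu
  haveI : HenselianLocalRing H := _root_.Hensel.IsStrictHenselization.henselian (R := ↥(U.left.presheaf.stalk u))
  haveI := _root_.Hensel.IsStrictHenselization.isSepClosure (R := ↥(U.left.presheaf.stalk u)) (S := H)
  haveI : IsSepClosed (IsLocalRing.ResidueField H) :=
    IsSepClosure.sep_closed (IsLocalRing.ResidueField ↥(U.left.presheaf.stalk u))
  haveI := Hensel.henselianLocalRing_of_ringEquiv e
  exact ⟨inferInstance, inferInstance, isSepClosed_of_ringEquiv (IsLocalRing.ResidueField.mapEquiv e)⟩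

theorem ringKrullDim_eq (hX : IsAlgSpace X) (p : FieldPt X) (hp : p.IsGeometric) {U : Over S}
    {a : (yon S).obj U ⟶ X} (ha : RepWith @Etale a) {u : ↥U.left} (h : Points.ofPt a u = Points.mk p) :
    ringKrullDim ↥(OEtStalk p) = ringKrullDim ↥(U.left.presheaf.stalk u) := by
  obtain ⟨H, _, _, _, _, hH, ⟨e⟩⟩ := exists_sh hX p hp ha h
  rw [← ringKrullDim_eq_of_ringEquiv e,
    Hensel.strictHenselization_ringKrullDim (R := ↥(U.left.presheaf.stalk u)) (S := H)]

theorem isReduced_iff (hX : IsAlgSpace X) (p : FieldPt X) (hp : p.IsGeometric) {U : Over S}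
    {a : (yon S).obj U ⟶ X} (ha : RepWith @Etale a) {u : ↥U.left} (h : Points.ofPt a u = Points.mk p) :
    _root_.IsReduced ↥(OEtStalk p) ↔ _root_.IsReduced ↥(U.left.presheaf.stalk u) := by
  obtain ⟨H, _, _, _, _, hH, ⟨e⟩⟩ := exists_sh hX p hp ha h
  rw [Hensel.strictHenselization_isReduced_iff (R := ↥(U.left.presheaf.stalk u)) (S := H)]
  exact ⟨fun _ => isReduced_of_injective e e.injective, fun _ => isReduced_of_injective e.symm e.symm.injective⟩

theorem isNoetherianRing_iff (hX : IsAlgSpace X) (p : FieldPt X) (hp : p.IsGeometric) {U : Over S}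
    {a : (yon S).obj U ⟶ X} (ha : RepWith @Etale a) {u : ↥U.left} (h : Points.ofPt a u = Points.mk p) :
    IsNoetherianRing ↥(OEtStalk p) ↔ IsNoetherianRing ↥(U.left.presheaf.stalk u) := by
  obtain ⟨H, _, _, _, _, hH, ⟨e⟩⟩ := exists_sh hX p hp ha h
  rw [Hensel.strictHenselization_isNoetherianRing_iff (R := ↥(U.left.presheaf.stalk u)) (S := H)]
  exact ⟨fun _ => isNoetherianRing_of_ringEquiv _ e.symm, fun _ => isNoetherianRing_of_ringEquiv _ e⟩

theorem isRegularLocalRing_iff (hX : IsAlgSpace X) (p : FieldPt X) (hp : p.IsGeometric) {U : Over S}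
    {a : (yon S).obj U ⟶ X} (ha : RepWith @Etale a) {u : ↥U.left} (h : Points.ofPt a u = Points.mk p) :
    IsRegularLocalRing ↥(OEtStalk p) ↔ IsRegularLocalRing ↥(U.left.presheaf.stalk u) := by
  obtain ⟨H, _, _, _, _, hH, ⟨e⟩⟩ := exists_sh hX p hp ha h
  constructor
  · intro hr
    haveI : IsNoetherianRing ↥(U.left.presheaf.stalk u) := (isNoetherianRing_iff hX p hp ha h).1 inferInstance
    exact (Hensel.strictHenselization_isRegularLocalRing_iff (R := ↥(U.left.presheaf.stalk u)) (S := H)).2
      (IsRegularLocalRing.of_ringEquiv e.symm)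
  · intro hr
    haveI : IsRegularLocalRing H :=
      (Hensel.strictHenselization_isRegularLocalRing_iff (R := ↥(U.left.presheaf.stalk u)) (S := H)).1 hr
    exact IsRegularLocalRing.of_ringEquiv e

theorem encard_minimalPrimes_congr {A : Type v} {B : Type w} [CommRing A] [CommRing B] (e : A ≃+* B) :
    (minimalPrimes A).encard = (minimalPrimes B).encard := by
  rw [show minimalPrimes A = Ideal.comap e '' minimalPrimes B from ?_]
  · exact (Ideal.comap_injective_of_surjective _ e.surjective).encard_image _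
  · refine Eq.trans ?_ (Ideal.comap_minimalPrimes_eq_of_surjective (f := e.toRingHom) e.surjective ⊥)
    rw [← RingHom.ker_eq_comap_bot, (RingHom.injective_iff_ker_eq_bot e.toRingHom).1 e.injective]

theorem numGeomBranchesAt_eq_encard (hX : IsAlgSpace X) (p : FieldPt X) (hp : p.IsGeometric) {U : Over S}
    {a : (yon S).obj U ⟶ X} (ha : RepWith @Etale a) {u : ↥U.left} (h : Points.ofPt a u = Points.mk p) :
    Brnch.numGeomBranchesAt U.left u = (minimalPrimes ↥(OEtStalk p)).encard := by
  obtain ⟨H, _, _, _, _, hH, ⟨e⟩⟩ := exists_sh hX p hp ha h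
  rw [← encard_minimalPrimes_congr e, Brnch.numGeomBranchesAt,
    ← BranchCount.card_strictHenselization (A := ↥(U.left.presheaf.stalk u)) (S := H), ENat.card_coe_set_eq]

theorem numGeomBranchesAt_const (hX : IsAlgSpace X) {x : Points X} {U U' : Over S}
    {a : (yon S).obj U ⟶ X} (ha : RepWith @Etale a) {u : ↥U.left} (h : Points.ofPt a u = x)
    {a' : (yon S).obj U' ⟶ X} (ha' : RepWith @Etale a') {u' : ↥U'.left} (h' : Points.ofPt a' u' = x) :
    Brnch.numGeomBranchesAt U.left u = Brnch.numGeomBranchesAt U'.left u' := by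
  obtain ⟨p, hp, rfl⟩ := exists_geometric x
  rw [numGeomBranchesAt_eq_encard hX p hp ha h, numGeomBranchesAt_eq_encard hX p hp ha' h']

theorem minimalPrimes_le_numGeomBranchesAt {Y : Scheme.{u}} (y : Y) :
    (minimalPrimes (Y.presheaf.stalk y)).encard ≤ Brnch.numGeomBranchesAt Y y := by
  rw [← ENat.card_coe_set_eq, ← BranchCount.card_components, BranchCount.numGeomBranchesAt_eq]
  exact le_iSup_of_le Y (le_iSup_of_le (𝟙 Y) (le_iSup_of_le y (le_iSup_of_le ⟨inferInstance, by simp⟩ le_rfl)))

theorem numGeomBranchesAt_le_of_forall {U₀ : Over S} {a₀ : (yon S).obj U₀ ⟶ X} (ha₀ : RepWith @Etale a₀)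
    {u₀ : ↥U₀.left} (m : ℕ∞)
    (h : ∀ (U : Over S) (a : (yon S).obj U ⟶ X) (u : ↥U.left), RepWith @Etale a →
      Points.ofPt a u = Points.ofPt a₀ u₀ → (minimalPrimes ↥(U.left.presheaf.stalk u)).encard ≤ m) :
    Brnch.numGeomBranchesAt U₀.left u₀ ≤ m := by
  rw [BranchCount.numGeomBranchesAt_eq]
  refine iSup_le fun W => iSup_le fun g => iSup_le fun w => iSup_le fun hgw => ?_
  obtain ⟨hg, rfl⟩ := hgw
  rw [BranchCount.card_components, ENat.card_coe_set_eq]
  let W' : Over S := Over.mk (g ≫ U₀.hom)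
  let g' : W' ⟶ U₀ := Over.homMk g rfl
  exact h W' _ w (repWith_comp ((repWith_yon_map_iff (P := @Etale) _).2 hg) ha₀) (ofPt_comp g' a₀ w)

end Groth.Agent.OEtStalk
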