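import Groth.Agent.Hensel.Construction
import Mathlib.AlgebraicGeometry.Morphisms.Etale
import Mathlib.FieldTheory.SeparableClosure

/-!
# Etale neighbourhoods of a field-valued point in terms of etale algebras
-/

set_option autoImplicit false
set_option linter.style.haveILetI false
universe u

open CategoryTheory AlgebraicGeometry

namespace Groth.Agent.OEtStalk

open Groth.Agent.Hensel

section Sep

variable {R E κ Ω : Type u} [CommRing R] [CommRing E] [Algebra R E] [Algebra.Etale R E] [Field κ] [Field Ω]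
  [Algebra R κ] [Algebra κ Ω] [Algebra R Ω] [IsScalarTower R κ Ω]

/-- Values of etale algebras in a field are separable over any intermediate field. -/
theorem isSeparable_of_etale (σ : E →ₐ[R] Ω) (y : E) : IsSeparable κ (σ y) := by
  let p := RingHom.ker (algebraMap R Ω)
  let q := RingHom.ker σ.toRingHom
  haveI : p.IsPrime := RingHom.ker_isPrime _
  haveI : q.IsPrime := RingHom.ker_isPrime _
  haveI : q.LiesOver p := ⟨Ideal.ext fun r => by simp [p, q, Ideal.under_def, RingHom.mem_ker]⟩
  letI := Localization.AtPrime.algebraOfLiesOver p q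
  haveI : Algebra.IsUnramifiedAt R q := by
    have : Algebra.FormallyUnramified E (Localization.AtPrime q) := .of_isLocalization q.primeCompl
    exact Algebra.FormallyUnramified.comp R E _
  haveI : Algebra.IsSeparable p.ResidueField q.ResidueField := inferInstance
  let j : p.ResidueField →+* κ := Ideal.ResidueField.lift p (algebraMap R κ) (by
    intro r hr
    refine (RingHom.mem_ker).2 ((algebraMap κ Ω).injective ?_)
    rw [← IsScalarTower.algebraMap_apply, map_zero]
    exact hr) (by
    intro r hr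
    refine isUnit_iff_ne_zero.2 fun h => hr ?_
    show algebraMap R Ω r = 0
    rw [IsScalarTower.algebraMap_apply R κ Ω, h, map_zero])
  let s : q.ResidueField →+* Ω := Ideal.ResidueField.lift q σ.toRingHom le_rfl
    (fun e he => isUnit_iff_ne_zero.2 he)
  have hs : ∀ e, s (algebraMap E q.ResidueField e) = σ e := fun e => Ideal.ResidueField.lift_algebraMap ..
  have hj : ∀ r, j (algebraMap R p.ResidueField r) = algebraMap R κ r := fun r => Ideal.ResidueField.lift_algebraMap ..
  have hsj : s.comp (algebraMap p.ResidueField q.ResidueField) = (algebraMap κ Ω).comp j := by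
    apply Ideal.ResidueField.ringHom_ext
    refine RingHom.ext fun r => ?_
    show s (algebraMap p.ResidueField q.ResidueField (algebraMap R p.ResidueField r)) = algebraMap κ Ω (j _)
    rw [← IsScalarTower.algebraMap_apply, IsScalarTower.algebraMap_apply R E q.ResidueField, hs, hj,
      ← IsScalarTower.algebraMap_apply]
    exact σ.commutes r
  let P := minpoly p.ResidueField (algebraMap E q.ResidueField y)
  have hP : P.Separable := Algebra.IsSeparable.isSeparable p.ResidueField (algebraMap E q.ResidueField y)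
  refine Polynomial.Separable.of_dvd (hP.map (f := j)) (minpoly.dvd κ _ ?_)
  rw [Polynomial.aeval_def, Polynomial.eval₂_map, ← hsj, ← hs, ← Polynomial.hom_eval₂]
  show s (Polynomial.aeval (algebraMap E q.ResidueField y) P) = 0
  rw [minpoly.aeval, map_zero]

end Sep

variable {U : Scheme.{u}} {V : U.Opens} (hV : IsAffineOpen V) {K Ω : Type u} [Field K] [Field Ω]
  [Algebra Γ(U, V) K] (j : K →+* Ω) (t0 : Spec (CommRingCat.of Ω) ⟶ U)
  (h0 : Spec.map (CommRingCat.ofHom (j.comp (algebraMap Γ(U, V) K))) ≫ hV.fromSpec = t0)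

/-- the scheme map of a neighbourhood -/
noncomputable abbrev nbhdMap (X : Nbhd Γ(U, V) K) : Spec (CommRingCat.of X.carrier) ⟶ U :=
  Spec.map (CommRingCat.ofHom (algebraMap Γ(U, V) X.carrier)) ≫ hV.fromSpec

/-- the point of a neighbourhood -/
noncomputable abbrev nbhdPt (X : Nbhd Γ(U, V) K) : Spec (CommRingCat.of Ω) ⟶ Spec (CommRingCat.of X.carrier) :=
  Spec.map (CommRingCat.ofHom (j.comp X.point.toRingHom))

theorem etale_nbhdMap (X : Nbhd Γ(U, V) K) : Etale (nbhdMap hV X) := by
  haveI : Etale (Spec.map (CommRingCat.ofHom (algebraMap Γ(U, V) X.carrier))) :=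
    (HasRingHomProperty.Spec_iff (P := @Etale)).2 (RingHom.etale_algebraMap.2 inferInstance)
  infer_instance

include h0 in
theorem nbhdPt_comp (X : Nbhd Γ(U, V) K) : nbhdPt j X ≫ nbhdMap hV X = t0 := by
  rw [← h0, nbhdPt, nbhdMap, ← Category.assoc, ← Spec.map_comp]
  congr 2
  ext r
  exact congrArg j (X.point.commutes r)

include h0 in
/-- Every etale neighbourhood is dominated by one coming from an etale algebra. -/
theorem exists_factor
    (hK : ∀ (E : Type u) [CommRing E] [Algebra Γ(U, V) E] [Algebra.Etale Γ(U, V) E] (σ : E →+* Ω),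
      σ.comp (algebraMap Γ(U, V) E) = j.comp (algebraMap Γ(U, V) K) → ∀ e, σ e ∈ j.range)
    {W : Scheme.{u}} (h : W ⟶ U) [Etale h] (t : Spec (CommRingCat.of Ω) ⟶ W) (ht : t ≫ h = t0) :
    ∃ (X : Nbhd Γ(U, V) K) (m : Spec (CommRingCat.of X.carrier) ⟶ W),
      m ≫ h = nbhdMap hV X ∧ nbhdPt j X ≫ m = t := by
  let w := t (IsLocalRing.closedPoint Ω)
  have hxV : h w ∈ V := by
    show h (t (IsLocalRing.closedPoint Ω)) ∈ V
    rw [← Scheme.Hom.comp_apply, ht, ← h0, Scheme.Hom.comp_apply]
    exact (hV.range_fromSpec ▸ Set.mem_range_self _ : hV.fromSpec _ ∈ (V : Set U))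
  obtain ⟨_, ⟨O, hO, rfl⟩, hwO, hOV⟩ := W.isBasis_affineOpens.exists_subset_of_mem_open hxV (h ⁻¹ᵁ V).isOpen
  letI := (h.appLE V O hOV).hom.toAlgebra
  haveI : Algebra.Etale Γ(U, V) Γ(W, O) :=
    RingHom.etale_algebraMap.1 (HasRingHomProperty.appLE (P := @Etale) h inferInstance ⟨V, hV⟩ ⟨O, hO⟩ hOV)
  have hsq : Spec.map (CommRingCat.ofHom (algebraMap Γ(U, V) Γ(W, O))) ≫ hV.fromSpec = hO.fromSpec ≫ h :=
    IsAffineOpen.SpecMap_appLE_fromSpec h hV hO hOV
  have hrange : Set.range t ⊆ Set.range hO.fromSpec := by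
    rintro _ ⟨z, rfl⟩
    rw [hO.range_fromSpec]
    rwa [Subsingleton.elim (α := PrimeSpectrum Ω) z (IsLocalRing.closedPoint Ω)]
  let l := IsOpenImmersion.lift hO.fromSpec t hrange
  have hl : l ≫ hO.fromSpec = t := IsOpenImmersion.lift_fac _ _ _
  obtain ⟨σ, hσ⟩ : ∃ σ : Γ(W, O) →+* Ω, Spec.map (CommRingCat.ofHom σ) = l :=
    ⟨(Spec.preimage l).hom, Spec.map_preimage l⟩
  have hσR : σ.comp (algebraMap Γ(U, V) Γ(W, O)) = j.comp (algebraMap Γ(U, V) K) := by
    have h1 : Spec.map (CommRingCat.ofHom (σ.comp (algebraMap Γ(U, V) Γ(W, O)))) ≫ hV.fromSpec =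
        Spec.map (CommRingCat.ofHom (j.comp (algebraMap Γ(U, V) K))) ≫ hV.fromSpec := by
      rw [h0, CommRingCat.ofHom_comp, Spec.map_comp, Category.assoc, hσ, hsq, reassoc_of% hl, ht]
    exact congrArg CommRingCat.Hom.hom (Spec.map_injective ((cancel_mono hV.fromSpec).1 h1))
  choose σ' hσ' using fun e => RingHom.mem_range.1 (hK Γ(W, O) σ hσR e)
  let σK : Γ(W, O) →ₐ[Γ(U, V)] K :=
    { toFun := σ'
      map_one' := j.injective (by rw [hσ', map_one, map_one])
      map_mul' := fun a b => j.injective (by rw [map_mul, hσ', hσ', hσ', map_mul])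
      map_zero' := j.injective (by rw [hσ', map_zero, map_zero])
      map_add' := fun a b => j.injective (by rw [map_add, hσ', hσ', hσ', map_add])
      commutes' := fun r => j.injective ((hσ' _).trans (DFunLike.congr_fun hσR r)) }
  let e := Nbhd.equiv Γ(W, O) σK
  refine ⟨Nbhd.mk' Γ(W, O) σK, Spec.map (CommRingCat.ofHom e.symm.toRingEquiv.toRingHom) ≫ hO.fromSpec, ?_, ?_⟩
  · rw [Category.assoc, ← hsq, ← Category.assoc, ← Spec.map_comp, nbhdMap]
    congr 2
    ext r
    exact e.symm.commutes r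
  · rw [← Category.assoc, nbhdPt, ← Spec.map_comp, ← hl, ← hσ]
    congr 2
    ext y
    show j ((Nbhd.mk' Γ(W, O) σK).point (e.symm y)) = σ y
    rw [Nbhd.pt_mk', AlgEquiv.apply_symm_apply]
    exact hσ' y

/-- Morphisms between the schemes of neighbourhoods come from morphisms of neighbourhoods. -/
theorem exists_hom {X Y : Nbhd Γ(U, V) K} (m : Spec (CommRingCat.of Y.carrier) ⟶ Spec (CommRingCat.of X.carrier))
    (hm : m ≫ nbhdMap hV X = nbhdMap hV Y) (hp : nbhdPt j Y ≫ m = nbhdPt j X) :
    ∃ φ : X ⟶ Y, Spec.map (CommRingCat.ofHom φ.1.toRingHom) = m := by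
  obtain ⟨ψ, rfl⟩ : ∃ ψ : X.carrier →+* Y.carrier, Spec.map (CommRingCat.ofHom ψ) = m :=
    ⟨(Spec.preimage m).hom, Spec.map_preimage m⟩
  have h1 : ψ.comp (algebraMap Γ(U, V) X.carrier) = algebraMap Γ(U, V) Y.carrier := by
    rw [nbhdMap, nbhdMap, ← Category.assoc, ← Spec.map_comp, cancel_mono] at hm
    exact congrArg CommRingCat.Hom.hom (Spec.map_injective hm)
  rw [nbhdPt, nbhdPt, ← Spec.map_comp] at hp
  have h2 := congrArg CommRingCat.Hom.hom (Spec.map_injective hp)
  exact ⟨⟨{ ψ with commutes' := DFunLike.congr_fun h1 },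
    AlgHom.ext fun x => j.injective (DFunLike.congr_fun h2 x)⟩, rfl⟩

end Groth.Agent.OEtStalk
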