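import Groth.Agent.OEtStalk.Factor
import Groth.Agent.AlgSpc.EtNbhdCof
import Groth.Agent.Branch.EtaleNbhds
import Groth.Agent.Hensel.Henselization

/-!
# The etale local ring of an algebraic space is a strict henselization of the local ring of a chart
-/

set_option autoImplicit false
set_option linter.style.haveILetI false
set_option backward.isDefEq.respectTransparency false
universe u

open CategoryTheory CategoryTheory.Limits AlgebraicGeometry Opposite

namespace Groth.Agent.OEtStalk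

open Groth.Agent.Hensel Groth.Agent.AlgSpc _root_.AlgSp

variable {S : Scheme.{u}} {X : Sp S}

theorem exists_rep (p : FieldPt X) [IsFiltered (EtNbhd p)ᵒᵖ] (z : ↥(OEtStalk p)) :
    ∃ (N : EtNbhd p) (s : ↥((OEt X).obj.obj (op N.1))), (stalkEtι p (OEt X) N).hom s = z := by
  have : PreservesFilteredColimitsOfSize.{u, u + 1} (forget CommRingCat.{u + 1}) :=
    preservesFilteredColimitsOfSize_shrink.{u + 1, u + 1, u, u + 1} _
  obtain ⟨N, s, h⟩ := Concrete.colimit_exists_rep (stalkEtDiagram p (OEt X)) z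
  exact ⟨N.unop, s, h⟩

theorem exists_eq_of_ι_eq (p : FieldPt X) [IsFiltered (EtNbhd p)ᵒᵖ] (N : EtNbhd p)
    (s s' : ↥((OEt X).obj.obj (op N.1))) (h : (stalkEtι p (OEt X) N).hom s = (stalkEtι p (OEt X) N).hom s') :
    ∃ (M : EtNbhd p) (g : M ⟶ N), ((OEt X).obj.map g.val.op).hom s = ((OEt X).obj.map g.val.op).hom s' := by
  have : PreservesFilteredColimitsOfSize.{u, u + 1} (forget CommRingCat.{u + 1}) :=
    preservesFilteredColimitsOfSize_shrink.{u + 1, u + 1, u, u + 1} _
  obtain ⟨k, f, g, hk⟩ := Concrete.colimit_exists_of_rep_eq (stalkEtDiagram p (OEt X)) (i := op N) (j := op N) s s' h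
  refine ⟨(IsFiltered.coeq f g).unop, (f ≫ IsFiltered.coeqHom f g).unop, ?_⟩
  have h1 : (stalkEtDiagram p (OEt X)).map (f ≫ IsFiltered.coeqHom f g) s =
      (stalkEtDiagram p (OEt X)).map (g ≫ IsFiltered.coeqHom f g) s' := by
    rw [Functor.map_comp, Functor.map_comp, ConcreteCategory.comp_apply, ConcreteCategory.comp_apply, hk]
  rw [← IsFiltered.coeq_condition] at h1
  exact h1

theorem ι_map (p : FieldPt X) {M N : EtNbhd p} (g : M ⟶ N) (s : ↥((OEt X).obj.obj (op N.1))) :
    (stalkEtι p (OEt X) M).hom (((OEt X).obj.map g.val.op).hom s) = (stalkEtι p (OEt X) N).hom s :=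
  ConcreteCategory.congr_hom (colimit.w (stalkEtDiagram p (OEt X)) g.op) s

/-- The etale local ring at a geometric point, computed on a chart. -/
theorem exists_strictHenselization (hX : IsAlgSpace X) (p : FieldPt X) (hp : p.IsGeometric)
    (E0 : EtOver X) (t0 : p.pt ⟶ E0.obj.left) (ht0 : (yon S).map t0 ≫ E0.obj.hom = p.toHom) :
    ∃ (H : Type u) (_ : CommRing H) (_ : IsLocalRing H)
      (_ : Algebra ↥(E0.obj.left.left.presheaf.stalk (t0.left (IsLocalRing.closedPoint p.K))) H)
      (_ : IsLocalHom (algebraMap ↥(E0.obj.left.left.presheaf.stalk (t0.left (IsLocalRing.closedPoint p.K))) H)),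
      _root_.Hensel.IsStrictHenselization ↥(E0.obj.left.left.presheaf.stalk (t0.left (IsLocalRing.closedPoint p.K))) H ∧
      Nonempty (H ≃+* ↥(OEtStalk p)) := by
  classical
  haveI : IsAlgClosed p.K := hp
  haveI := isCofiltered_etNbhd hX p hp
  let U0 := E0.obj.left.left
  let x : U0 := t0.left (IsLocalRing.closedPoint p.K)
  obtain ⟨_, ⟨V, hV, rfl⟩, hxV, -⟩ :=
    U0.isBasis_affineOpens.exists_subset_of_mem_open (Set.mem_univ x) isOpen_univ
  let A := U0.presheaf.stalk x
  let κ := IsLocalRing.ResidueField A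
  let Ω := p.K
  let d : A ⟶ CommRingCat.of Ω := Scheme.stalkClosedPointTo t0.left
  haveI : IsLocalHom d.hom := Scheme.isLocalHom_stalkClosedPointTo _
  letI : Algebra κ Ω := (IsLocalRing.ResidueField.lift d.hom).toAlgebra
  letI := TopCat.Presheaf.algebra_section_stalk U0.presheaf (⟨x, hxV⟩ : ↥V)
  haveI := hV.isLocalization_stalk ⟨x, hxV⟩
  letI : Algebra Γ(U0, V) Ω := (d.hom.comp (algebraMap Γ(U0, V) A)).toAlgebra
  haveI : IsScalarTower Γ(U0, V) κ Ω := IsScalarTower.of_algebraMap_eq' (RingHom.ext fun _ => rfl)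
  let K : Type u := separableClosure κ Ω
  let j : K →+* Ω := algebraMap (separableClosure κ Ω) Ω
  letI : Algebra A K := ((algebraMap κ K).comp (IsLocalRing.residue A)).toAlgebra
  haveI : IsScalarTower A κ K := .of_algebraMap_eq' rfl
  letI : Algebra Γ(U0, V) K := ((algebraMap A K).comp (algebraMap Γ(U0, V) A)).toAlgebra
  haveI : IsScalarTower Γ(U0, V) A K := .of_algebraMap_eq' rfl
  have hjR : j.comp (algebraMap Γ(U0, V) K) = algebraMap Γ(U0, V) Ω := RingHom.ext fun r => rfl
  have h0 : Spec.map (CommRingCat.ofHom (j.comp (algebraMap Γ(U0, V) K))) ≫ hV.fromSpec = t0.left := by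
    rw [hjR]
    conv_rhs => rw [← Scheme.Spec_stalkClosedPointTo_fromSpecStalk t0.left]
    refine Eq.trans ?_ (congrArg (Spec.map d ≫ ·) (hV.fromSpecStalk_eq_fromSpecStalk hxV))
    show _ = Spec.map d ≫ Spec.map (U0.presheaf.germ V x hxV) ≫ hV.fromSpec
    rw [← Category.assoc, ← Spec.map_comp]
    rfl
  have hK : ∀ (E : Type u) [CommRing E] [Algebra Γ(U0, V) E] [Algebra.Etale Γ(U0, V) E] (σ : E →+* Ω),
      σ.comp (algebraMap Γ(U0, V) E) = j.comp (algebraMap Γ(U0, V) K) → ∀ e, σ e ∈ j.range := by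
    intro E _ _ _ σ hσ e
    let σ' : E →ₐ[Γ(U0, V)] Ω := { σ with commutes' := fun r => by rw [← hjR]; exact DFunLike.congr_fun hσ r }
    exact ⟨⟨σ e, mem_separableClosure_iff.2 (isSeparable_of_etale (κ := κ) σ' e)⟩, rfl⟩
  -- the neighbourhoods coming from etale algebras
  let WX : Nbhd Γ(U0, V) K → Over S := fun N => Over.mk (nbhdMap hV N ≫ E0.obj.left.hom)
  let mX : ∀ N, WX N ⟶ E0.obj.left := fun N => Over.homMk (nbhdMap hV N) rfl
  have hmX : ∀ N, RepWith @Etale ((yon S).map (mX N) ≫ E0.obj.hom) := fun N =>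
    repWith_comp ((repWith_yon_map_iff (P := @Etale) _).2 (etale_nbhdMap hV N)) E0.property
  let tX : ∀ N, p.pt ⟶ WX N := fun N => Over.homMk (nbhdPt j N) (by
    show nbhdPt j N ≫ nbhdMap hV N ≫ E0.obj.left.hom = p.pt.hom
    rw [← Category.assoc, nbhdPt_comp hV j t0.left h0, Over.w t0])
  have htX : ∀ N, tX N ≫ mX N = t0 := fun N => Over.OverMorphism.ext (nbhdPt_comp hV j t0.left h0 N)
  let NX : Nbhd Γ(U0, V) K → EtNbhd p := fun N =>
    ⟨EtOver.mk ((yon S).map (mX N) ≫ E0.obj.hom) (hmX N), ⟨tX N, by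
      show (yon S).map (tX N) ≫ (yon S).map (mX N) ≫ E0.obj.hom = p.toHom
      rw [← Functor.map_comp_assoc, htX, ht0]⟩⟩
  let N0 : EtNbhd p := ⟨E0, ⟨t0, ht0⟩⟩
  let πX : ∀ N, NX N ⟶ N0 := fun N =>
    CategoryOfElements.homMk _ _ (EtOver.homMk (mX N) rfl) (Subtype.ext (htX N))
  let up : ∀ (N : Nbhd Γ(U0, V) K), N.carrier →+* ↥((OEt X).obj.obj (op (NX N).1)) := fun N =>
    (ULift.ringEquiv.{u, u + 1}.symm : Γ(Spec (CommRingCat.of N.carrier), ⊤) ≃+* _).toRingHom.comp
      (Scheme.ΓSpecIso (CommRingCat.of N.carrier)).inv.hom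
  let val : ∀ (N : Nbhd Γ(U0, V) K), N.carrier →+* ↥(OEtStalk p) := fun N =>
    (stalkEtι p (OEt X) (NX N)).hom.comp (up N)
  have hup : ∀ {N M : Nbhd Γ(U0, V) K} (φ : N ⟶ M) (g : NX M ⟶ NX N),
      g.val.hom.left.left = Spec.map (CommRingCat.ofHom φ.1.toRingHom) →
      ∀ c, ((OEt X).obj.map g.val.op).hom (up N c) = up M (φ.1 c) := by
    intro N M φ g hg c
    rw [AlgSp.OEt_map]
    refine congrArg ULift.up ?_
    show g.val.hom.left.left.appTop.hom ((Scheme.ΓSpecIso (CommRingCat.of N.carrier)).inv c) = _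
    rw [hg]
    exact (ConcreteCategory.congr_hom (Scheme.ΓSpecIso_inv_naturality (CommRingCat.ofHom φ.1.toRingHom)) c).symm
  let gX : ∀ {N M : Nbhd Γ(U0, V) K}, (N ⟶ M) → (NX M ⟶ NX N) := fun {N M} φ => by
    have hw : Spec.map (CommRingCat.ofHom φ.1.toRingHom) ≫ nbhdMap hV N = nbhdMap hV M := by
      rw [nbhdMap, nbhdMap, ← Category.assoc, ← Spec.map_comp]
      congr 2
      exact CommRingCat.hom_ext (RingHom.ext fun r => φ.1.commutes r)
    let m : WX M ⟶ WX N := Over.homMk (Spec.map (CommRingCat.ofHom φ.1.toRingHom)) (by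
      show Spec.map (CommRingCat.ofHom φ.1.toRingHom) ≫ nbhdMap hV N ≫ E0.obj.left.hom = nbhdMap hV M ≫ E0.obj.left.hom
      rw [← Category.assoc, hw])
    refine CategoryOfElements.homMk _ _ (EtOver.homMk m ?_) (Subtype.ext (Over.OverMorphism.ext ?_))
    · show (yon S).map m ≫ (yon S).map (mX N) ≫ E0.obj.hom = (yon S).map (mX M) ≫ E0.obj.hom
      rw [← Functor.map_comp_assoc, show m ≫ mX N = mX M from Over.OverMorphism.ext hw]
    · show nbhdPt j M ≫ Spec.map (CommRingCat.ofHom φ.1.toRingHom) = nbhdPt j N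
      rw [nbhdPt, nbhdPt, ← Spec.map_comp]
      congr 1
      exact CommRingCat.hom_ext (RingHom.ext fun r => congrArg j (Nbhd.pt_hom φ r))
  have hval : ∀ {N M : Nbhd Γ(U0, V) K} (φ : N ⟶ M) c, val M (φ.1 c) = val N c := fun {N M} φ c => by
    show (stalkEtι p (OEt X) (NX M)).hom (up M (φ.1 c)) = _
    rw [← hup φ (gX φ) rfl c, ι_map]
    rfl
  let Ψ0 : Hens Γ(U0, V) K → ↥(OEtStalk p) := fun z =>
    val (Hens.exists_rep z).choose (Hens.exists_rep z).choose_spec.choose
  have hΨ : ∀ N c, Ψ0 (Hens.of N c) = val N c := by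
    intro N c
    have h := (Hens.exists_rep (Hens.of N c)).choose_spec.choose_spec
    set M := (Hens.exists_rep (Hens.of N c)).choose
    set y := (Hens.exists_rep (Hens.of N c)).choose_spec.choose
    show val M y = val N c
    let L := IsFiltered.max M N
    rw [← Hens.of_hom (IsFiltered.leftToMax M N) y, ← Hens.of_hom (IsFiltered.rightToMax M N) c,
      Hens.of_eq_iff] at h
    obtain ⟨L', f, hf⟩ := h
    rw [← hval (IsFiltered.leftToMax M N) y, ← hval (IsFiltered.rightToMax M N) c, ← hval f, hf, hval f]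
  let Ψ : Hens Γ(U0, V) K →+* ↥(OEtStalk p) :=
    { toFun := Ψ0
      map_one' := by rw [← map_one (Hens.of (Nbhd.base (R := Γ(U0, V)) (K := K))), hΨ, map_one]
      map_zero' := by rw [← map_zero (Hens.of (Nbhd.base (R := Γ(U0, V)) (K := K))), hΨ, map_zero]
      map_add' := fun a b => by
        obtain ⟨N, y, z, rfl, rfl⟩ := Hens.exists_rep₂ a b
        rw [← map_add, hΨ, hΨ, hΨ, map_add]
      map_mul' := fun a b => by
        obtain ⟨N, y, z, rfl, rfl⟩ := Hens.exists_rep₂ a b
        rw [← map_mul, hΨ, hΨ, hΨ, map_mul] }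
  -- domination of any neighbourhood over `N0`
  have factor : ∀ (M : EtNbhd p) (g : M ⟶ N0), ∃ (N : Nbhd Γ(U0, V) K) (h : NX N ⟶ M), h ≫ g = πX N := by
    intro M g
    haveI : Etale g.val.hom.left.left := EtOver.etale_left g.val
    have hg : M.2.1 ≫ g.val.hom.left = t0 := congrArg Subtype.val g.property
    obtain ⟨N, m, hm, hmt⟩ := exists_factor hV j t0.left h0 hK g.val.hom.left.left M.2.1.left
      (congrArg CommaMorphism.left hg)
    let m' : WX N ⟶ M.1.obj.left := Over.homMk m (by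
      show m ≫ M.1.obj.left.hom = nbhdMap hV N ≫ E0.obj.left.hom
      rw [← hm, Category.assoc, Over.w g.val.hom.left])
    have hm' : m' ≫ g.val.hom.left = mX N := Over.OverMorphism.ext hm
    refine ⟨N, CategoryOfElements.homMk _ _ (EtOver.homMk m' ?_) (Subtype.ext (Over.OverMorphism.ext hmt)), ?_⟩
    · show (yon S).map m' ≫ M.1.obj.hom = (yon S).map (mX N) ≫ E0.obj.hom
      rw [← hm', Functor.map_comp, Category.assoc, EtOver.w g.val]
    · exact CategoryOfElements.ext _ _ _ (EtOver.hom_ext _ _ hm')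
  have hbij : Function.Bijective Ψ := by
    constructor
    · rw [injective_iff_map_eq_zero]
      intro z hz
      obtain ⟨N, c, rfl⟩ := Hens.exists_rep z
      replace hz : (stalkEtι p (OEt X) (NX N)).hom (up N c) = (stalkEtι p (OEt X) (NX N)).hom 0 := by
        rw [map_zero]; exact (hΨ N c).symm.trans hz
      obtain ⟨M, g, hg⟩ := exists_eq_of_ι_eq p (NX N) _ _ hz
      rw [map_zero] at hg
      obtain ⟨N', h, hh⟩ := factor M (g ≫ πX N)
      have hm := congrArg (fun f : NX N' ⟶ N0 => f.val.hom.left.left) hh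
      have hp' := congrArg (fun v : p.pt ⟶ WX N => v.left) (congrArg Subtype.val (h ≫ g).property)
      obtain ⟨φ, hφ⟩ := exists_hom hV j (X := N) (Y := N') (h ≫ g).val.hom.left.left hm hp'
      have h1 := hup φ (h ≫ g) hφ.symm c
      have h2 : ((OEt X).obj.map (h ≫ g).val.op).hom (up N c) = 0 := by
        rw [show (h ≫ g).val.op = g.val.op ≫ h.val.op from rfl, Functor.map_comp]
        show ((OEt X).obj.map h.val.op).hom (((OEt X).obj.map g.val.op).hom (up N c)) = 0
        rw [hg, map_zero]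
      rw [← Hens.of_hom φ c]
      have h3 : up N' (φ.1 c) = up N' 0 := by rw [← h1, h2, map_zero]
      have hinj : Function.Injective (up N') := fun a b hab => by
        have := congrArg ULift.down hab
        exact (Scheme.ΓSpecIso (CommRingCat.of N'.carrier)).symm.commRingCatIsoToRingEquiv.injective this
      rw [hinj h3, map_zero]
    · intro z
      obtain ⟨M, s, rfl⟩ := exists_rep p z
      obtain ⟨L, g1, g2, -⟩ := IsCofilteredOrEmpty.cone_objs M N0
      obtain ⟨N, h, -⟩ := factor L g2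
      let c : N.carrier := (Scheme.ΓSpecIso (CommRingCat.of N.carrier)).hom
        (((OEt X).obj.map (h ≫ g1).val.op).hom s).down
      refine ⟨Hens.of N c, (hΨ N c).trans ?_⟩
      rw [← ι_map p (h ≫ g1) s]
      refine congrArg (stalkEtι p (OEt X) (NX N)).hom ?_
      show ULift.up _ = _
      simp only [c]
      refine congrArg ULift.up ?_
      exact (Scheme.ΓSpecIso (CommRingCat.of N.carrier)).hom_inv_id_apply _
  obtain ⟨e⟩ := Branch.nonempty_hens_ringEquiv (A := A) (K := K) (hV.primeIdealOf ⟨x, hxV⟩).asIdeal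
  haveI : IsSepClosure κ K := separableClosure.isSepClosure κ Ω
  haveI := isLocalHom_algebraMap_hens (R := A) (K := K)
  exact ⟨Hens A K, inferInstance, inferInstance, inferInstance, inferInstance, isStrictHenselization_hens,
    ⟨e.symm.trans (RingEquiv.ofBijective Ψ hbij)⟩⟩

end Groth.Agent.OEtStalk
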