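import Groth.Agent.OEtStalk.Apply
import Groth.Prelude.Def_AlgSpSub

/-!
# Reduced algebraic spaces and etale local rings
-/

set_option autoImplicit false
set_option linter.style.haveILetI false
set_option backward.isDefEq.respectTransparency false
universe u

open CategoryTheory CategoryTheory.Limits AlgebraicGeometry

namespace Groth.Agent.OEtStalk

open Groth.Agent.AlgSpc _root_.AlgSp

variable {S : Scheme.{u}} {X : Sp S}

theorem isReduced_stalk_iff (hX : IsAlgSpace X) {U U' : Over S} {a : (yon S).obj U ⟶ X} {a' : (yon S).obj U' ⟶ X}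
    (ha : RepWith @Etale a) (ha' : RepWith @Etale a') {u : ↥U.left} {u' : ↥U'.left}
    (h : Points.ofPt a u = Points.ofPt a' u') :
    _root_.IsReduced ↥(U.left.presheaf.stalk u) ↔ _root_.IsReduced ↥(U'.left.presheaf.stalk u') := by
  obtain ⟨p, hp, hx⟩ := exists_geometric (Points.ofPt a u)
  rw [← isReduced_iff hX p hp ha hx.symm, ← isReduced_iff hX p hp ha' (h.symm.trans hx.symm)]

theorem isReduced_of_etale_chart (hX : IsAlgSpace X) (h : IsReducedSp X) {U : Over S} {a : (yon S).obj U ⟶ X}
    (ha : RepWith @Etale a) : IsReduced U.left := by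
  obtain ⟨U', a', ha', has', hU'⟩ := h
  haveI : IsReduced U'.left := hU'
  haveI : ∀ u : ↥U.left, _root_.IsReduced (U.left.presheaf.stalk u) := fun u => by
    obtain ⟨u', hu'⟩ := surjective_ofPt has' (Points.ofPt a u)
    exact (isReduced_stalk_iff hX ha ha' hu'.symm).2 inferInstance
  exact isReduced_of_isReduced_stalk _

end Groth.Agent.OEtStalk
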